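import Groth.Prelude.Def_Cyc
import Groth.Agent.RatPicProd.Core
import Groth.Agent.FlatDvr.FibreStalk
import Groth.Agent.H23.InsepLen
import Groth.Agent.FibDim.RelDim
import Groth.Agent.CycLib.LFT
import Mathlib.AlgebraicGeometry.Geometrically.Integral

/-!
# Codimension one points of a product of two varieties
-/

set_option autoImplicit false
set_option linter.style.haveILetI false
set_option linter.unusedSectionVars false
set_option backward.isDefEq.respectTransparency false
set_option backward.isDefEq.respectTransparency.types false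

universe u

open CategoryTheory CategoryTheory.Limits AlgebraicGeometry IsLocalRing

noncomputable section

namespace Groth.Agent.H28.ProdCl

/-- The generic point of the fibre over `D` of a morphism with integral fibres. -/
def gen {P X : Scheme.{u}} (p : P ⟶ X) [GeometricallyIntegral p] (D : X) : P :=
  p.fiberι D (genericPoint ↥(p.fiber D))

section Gen

variable {P X : Scheme.{u}} (p : P ⟶ X) [GeometricallyIntegral p]

theorem apply_gen (D : X) : p (gen p D) = D := FlatDvr.fiberι_apply_eq p _

theorem gen_specializes (z : P) : gen p (p z) ⤳ z := by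
  have h := ((genericPoint_spec ↥(p.fiber (p z))).specializes (Set.mem_univ (p.asFiber z))).map
    (p.fiberι (p z)).continuous
  rwa [Scheme.Hom.fiberι_asFiber] at h

theorem fibMax_gen (D : X) : FibDim.FibMax p (gen p D) :=
  (FibDim.fibMax_fiberι_iff p (genericPoint ↥(p.fiber D))).2 fun w hw =>
    (hw.antisymm ((genericPoint_spec ↥(p.fiber D)).specializes trivial)).eq

theorem eq_gen_of_fibMax {z : P} (h : FibDim.FibMax p z) : z = gen p (p z) :=
  (h _ (gen_specializes p z) (apply_gen p (p z))).symm

theorem maximalIdeal_gen (D : X) : maximalIdeal (P.presheaf.stalk (gen p D)) =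
    (maximalIdeal (X.presheaf.stalk (p (gen p D)))).map (p.stalkMap (gen p D)).hom := by
  have hF : IsField ((p.fiber D).presheaf.stalk (genericPoint ↥(p.fiber D))) := by
    exact Field.toIsField ((p.fiber D).functionField)
  have hker := FlatDvr.ker_stalkMap_fiberι p (genericPoint ↥(p.fiber D))
  refine le_antisymm (fun a ha => ?_) ?_
  · refine SetLike.le_def.1 hker.le (RingHom.mem_ker.2 ?_)
    by_contra hne
    obtain ⟨b, hb⟩ := hF.mul_inv_cancel hne
    haveI : IsLocalHom ((p.fiberι D).stalkMap (genericPoint ↥(p.fiber D))).hom :=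
      (p.fiberι D).toLRSHom.prop (genericPoint ↥(p.fiber D))
    exact (mem_maximalIdeal _).1 ha (isUnit_of_map_unit ((p.fiberι D).stalkMap _).hom a
      (IsUnit.of_mul_eq_one _ hb))
  · rw [Ideal.map_le_iff_le_comap]
    intro a ha hu
    exact ha (isUnit_of_map_unit _ a hu)

theorem length_gen (D : X) : (Module.length (P.presheaf.stalk (gen p D))
    (P.presheaf.stalk (gen p D) ⧸ Ideal.map (p.stalkMap (gen p D)).hom
      (maximalIdeal (X.presheaf.stalk (p (gen p D)))))).toNat = 1 := by
  rw [← maximalIdeal_gen, H23.InsepLen.length_eq_one_of_isMaximal]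
  rfl

end Gen

section Product

variable {k : Type u} [Field k] [IsAlgClosed k] {X Y P : Scheme.{u}} {f : X ⟶ Spec (CommRingCat.of k)}
  {g : Y ⟶ Spec (CommRingCat.of k)} {p₁ : P ⟶ X} {p₂ : P ⟶ Y} (hP : IsPullback p₁ p₂ f g)
  [IsIntegral X] [IsIntegral Y] [LocallyOfFiniteType f] [LocallyOfFiniteType g]

include hP in
theorem geometricallyIntegral_fst : GeometricallyIntegral p₁ :=
  MorphismProperty.of_isPullback (P := @GeometricallyIntegral) hP.flip (RatPicProd.geometricallyIntegral_of_isAlgClosed g)

include hP in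
theorem lft_fst : LocallyOfFiniteType p₁ :=
  MorphismProperty.of_isPullback (P := @LocallyOfFiniteType) hP.flip inferInstance

theorem rd_le_generic (x : X) : FibDim.rd f x ≤ FibDim.rd f (genericPoint X) :=
  FibDim.rd_le_of_specializes f ((genericPoint_spec X).specializes trivial) (Subsingleton.elim _ _)

theorem rd_lt_generic {x : X} (h : x ≠ genericPoint X) : FibDim.rd f x < FibDim.rd f (genericPoint X) :=
  FibDim.rd_lt f ((genericPoint_spec X).specializes trivial) (Ne.symm h) (Subsingleton.elim _ _)

include hP in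
theorem rd_comp_eq [LocallyOfFiniteType p₁] [LocallyOfFiniteType p₂] (z : P) :
    FibDim.rd f (p₁ z) + FibDim.rd p₁ z = FibDim.rd g (p₂ z) + FibDim.rd p₂ z := by
  rw [← FibDim.rd_comp, ← FibDim.rd_comp]
  congr 1
  exact hP.w

include hP in
theorem snd_gen (D : X) [GeometricallyIntegral p₁] [LocallyOfFiniteType p₁] :
    FibDim.rd p₁ (gen p₁ D) = FibDim.rd g (genericPoint Y) ∧ p₂ (gen p₁ D) = genericPoint Y := by
  have h1 := FibDim.fibreDimAt_baseChange hP.flip (gen p₁ D)
  rw [FibDim.fibreDimAt_eq_rd p₁ (fibMax_gen p₁ D)] at h1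
  have h2 := FibDim.rd_le_fibreDimAt g ((genericPoint_spec Y).specializes (Set.mem_univ (p₂ (gen p₁ D))))
    (Subsingleton.elim _ _)
  rw [← h1] at h2
  have h2' : FibDim.rd g (genericPoint Y) ≤ FibDim.rd p₁ (gen p₁ D) := by exact_mod_cast h2
  have h3 := FibDim.rd_baseChange_le hP.flip (gen p₁ D)
  have h4 := rd_le_generic (f := g) (p₂ (gen p₁ D))
  refine ⟨by omega, ?_⟩
  by_contra hne
  have := rd_lt_generic (f := g) hne
  omega

include hP in
theorem eq_gen_of_rd_eq [GeometricallyIntegral p₁] [LocallyOfFiniteType p₁] {z : P}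
    (h : FibDim.rd p₁ z = FibDim.rd g (genericPoint Y)) : z = gen p₁ (p₁ z) := by
  refine eq_gen_of_fibMax p₁ fun z' hz' he => ?_
  by_contra hne
  have := FibDim.rd_lt p₁ hz' hne he
  have := FibDim.rd_baseChange_le hP.flip z'
  have := rd_le_generic (f := g) (p₂ z')
  omega

include hP in
/-- A codimension one point not over the generic point of `Y`. -/
theorem codimOne_snd [GeometricallyIntegral p₂] [LocallyOfFiniteType p₁] [LocallyOfFiniteType p₂] {z : P}
    (hz : FibDim.rd f (p₁ z) + FibDim.rd p₁ z + 1 = FibDim.rd f (genericPoint X) + FibDim.rd g (genericPoint Y))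
    (h : p₂ z ≠ genericPoint Y) :
    z = gen p₂ (p₂ z) ∧ p₁ z = genericPoint X ∧ FibDim.rd g (p₂ z) + 1 = FibDim.rd g (genericPoint Y) := by
  have h1 := rd_comp_eq hP z
  have h2 := FibDim.rd_baseChange_le hP z
  have h3 := rd_le_generic (f := f) (p₁ z)
  have h4 := rd_lt_generic (f := g) h
  refine ⟨eq_gen_of_rd_eq hP.flip (by omega), ?_, by omega⟩
  by_contra hne
  have := rd_lt_generic (f := f) hne
  omega

include hP in
theorem isIntegral_prod : IsIntegral P := by
  haveI := geometricallyIntegral_fst hP
  haveI := lft_fst hP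
  haveI : Flat p₁ := by
    haveI : Flat g := inferInstance
    exact MorphismProperty.of_isPullback (P := @Flat) hP.flip inferInstance
  haveI : IsLocallyNoetherian X := LocallyOfFiniteType.isLocallyNoetherian f
  haveI : UniversallyOpen p₁ := by
    haveI : UniversallyOpen g := inferInstance
    exact MorphismProperty.of_isPullback (P := @UniversallyOpen) hP.flip inferInstance
  exact GeometricallyIntegral.isIntegral_of_isLocallyNoetherian p₁

include hP in
theorem pullFun_fst [GeometricallyIntegral p₁] [LocallyOfFiniteType p₁] {δP : P → ℤ} {δX : X → ℤ}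
    (hδ : Cyc.DeltaCompat p₁ δP δX) (r : ℤ) (hr : r = FibDim.rd g (genericPoint Y)) (α : X → ℤ) (z : P)
    [Decidable (z = gen p₁ (p₁ z))] :
    Cyc.pullFun p₁ δP δX r α z = if z = gen p₁ (p₁ z) then α (p₁ z) else 0 := by
  have h := CycLib.deltaCompat_eq p₁ hδ z
  by_cases hz : z = gen p₁ (p₁ z)
  · rw [if_pos hz]
    have h1 := (snd_gen hP (p₁ z)).1
    rw [← hz] at h1
    rw [Cyc.pullFun, if_pos (by omega)]
    have h2 := length_gen p₁ (p₁ z)
    rw [← hz] at h2
    rw [h2, Nat.cast_one, mul_one]
  · rw [if_neg hz, Cyc.pullFun, if_neg fun hc => hz (eq_gen_of_rd_eq hP (by omega))]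

end Product

end Groth.Agent.H28.ProdCl
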