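import Groth.Agent.GrpSchLib.TensorDomain
import Groth.Agent.GrpSchLib.LaurentPic
import Groth.Agent.ExtReesLib.Ufd
import Mathlib.RingTheory.TensorProduct.Quotient
import Mathlib.RingTheory.TensorProduct.MvPolynomial
import Mathlib.RingTheory.Localization.BaseChange
import Mathlib.RingTheory.Polynomial.UniqueFactorization

/-!
# The tensor product of a field with a purely transcendental extension
-/

set_option autoImplicit false
set_option linter.style.haveILetI false
set_option backward.isDefEq.respectTransparency false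
set_option backward.isDefEq.respectTransparency.types false

universe u

open TensorProduct

noncomputable section

namespace Groth.Agent.H28.ProdCl

variable {k : Type u} [Field k] {K : Type u} [Field K] [Algebra k K] {σ : Type u}

/-- Polynomials over a field are a domain with unique factorisation after extension of scalars. -/
theorem ufd_tensor_mvPolynomial :
    IsDomain (K ⊗[k] MvPolynomial σ k) ∧ UniqueFactorizationMonoid (K ⊗[k] MvPolynomial σ k) :=
  GrpSchLib.LaurentPic.ufd_of_ringEquiv (MvPolynomial.algebraTensorAlgEquiv k K).symm.toRingEquiv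

/-- Units of `K ⊗ k[t]` are constants. -/
theorem eq_tmul_of_isUnit {t : K ⊗[k] MvPolynomial σ k} (h : IsUnit t) : ∃ c : K, t = c ⊗ₜ 1 := by
  obtain ⟨c, hc, e⟩ : ∃ c : K, IsUnit c ∧ MvPolynomial.C c = MvPolynomial.algebraTensorAlgEquiv k K t := by
    have h' := h.map (MvPolynomial.algebraTensorAlgEquiv k K (σ := σ))
    obtain ⟨c, hc, e⟩ := MvPolynomial.isUnit_iff_eq_C_of_isReduced.1 h'
    exact ⟨c, hc, e.symm⟩
  refine ⟨c, (MvPolynomial.algebraTensorAlgEquiv k K).injective (e.symm.trans ?_)⟩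
  exact ((MvPolynomial.algebraTensorAlgEquiv k K (σ := σ)).commutes c).symm

variable [IsAlgClosed k]

/-- Primes stay prime after extension of scalars from an algebraically closed field. -/
theorem prime_one_tmul {p : MvPolynomial σ k} (hp : Prime p) : Prime ((1 : K) ⊗ₜ[k] p) := by
  haveI := (ufd_tensor_mvPolynomial (k := k) (K := K) (σ := σ)).1
  have hne : (1 : K) ⊗ₜ[k] p ≠ 0 := fun h =>
    hp.ne_zero ((Module.FaithfullyFlat.one_tmul_eq_zero_iff k (MvPolynomial σ k) (A := K) p).1 h)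
  haveI : (Ideal.span {p}).IsPrime := (Ideal.span_singleton_prime hp.ne_zero).2 hp
  haveI : IsDomain (K ⊗[k] (MvPolynomial σ k ⧸ Ideal.span {p})) := GrpSchLib.isDomain_tensor_of_isAlgClosed
  let e := Algebra.TensorProduct.tensorQuotientEquiv (R := k) k (MvPolynomial σ k) K (Ideal.span {p})
  haveI := e.symm.toRingEquiv.toMulEquiv.isDomain (K ⊗[k] (MvPolynomial σ k ⧸ Ideal.span {p}))
  have h := (Ideal.Quotient.isDomain_iff_prime _).1 this
  rw [Ideal.map_span, Set.image_singleton] at h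
  exact (Ideal.span_singleton_prime hne).1 h

/-- Divisors of elements of `k[t]` in `K[t]` are split. -/
theorem eq_tmul_of_dvd {m : MvPolynomial σ k} (hm : m ≠ 0) {t : K ⊗[k] MvPolynomial σ k}
    (ht : t ∣ (1 : K) ⊗ₜ[k] m) : ∃ (c : K) (b : MvPolynomial σ k), t = c ⊗ₜ b := by
  haveI := (ufd_tensor_mvPolynomial (k := k) (K := K) (σ := σ)).1
  revert t hm
  refine UniqueFactorizationMonoid.induction_on_prime m (fun h => absurd rfl h) ?_ ?_
  · intro x hx _ t ht
    obtain ⟨c, rfl⟩ := eq_tmul_of_isUnit (isUnit_of_dvd_unit ht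
      (hx.map (Algebra.TensorProduct.includeRight : MvPolynomial σ k →ₐ[k] K ⊗[k] MvPolynomial σ k)))
    exact ⟨c, 1, rfl⟩
  · intro a p ha hp ih _ t ht
    have hq := prime_one_tmul (K := K) hp
    rw [show (1 : K) ⊗ₜ[k] (p * a) = ((1 : K) ⊗ₜ[k] p) * ((1 : K) ⊗ₜ[k] a) by simp] at ht
    by_cases hpt : (1 : K) ⊗ₜ[k] p ∣ t
    · obtain ⟨t', rfl⟩ := hpt
      obtain ⟨c, b, rfl⟩ := ih ha ((mul_dvd_mul_iff_left hq.ne_zero).1 ht)
      exact ⟨c, p * b, by simp⟩
    · obtain ⟨w, hw⟩ := ht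
      rcases hq.dvd_or_dvd (⟨_, hw.symm⟩ : (1 : K) ⊗ₜ[k] p ∣ t * w) with h | ⟨w', rfl⟩
      · exact absurd h hpt
      · refine ih ha ⟨w', mul_left_cancel₀ hq.ne_zero ?_⟩
        rw [hw, mul_left_comm]

variable {L : Type u} [Field L] [Algebra k L] (θ : MvPolynomial σ k →ₐ[k] L) (hθ : Function.Injective θ)
  (hfrac : ∀ x : L, ∃ a b : MvPolynomial σ k, θ b ≠ 0 ∧ x * θ b = θ a)

include hθ hfrac in
/-- `K ⊗ k(t)` is factorial and its units are split. -/
theorem tensor_purelyTranscendental :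
    UniqueFactorizationMonoid (K ⊗[k] L) ∧
      ∀ u : K ⊗[k] L, IsUnit u → ∃ (c : K) (a : L), c ≠ 0 ∧ a ≠ 0 ∧ u = c ⊗ₜ a := by
  haveI : IsDomain (K ⊗[k] L) := GrpSchLib.isDomain_tensor_of_isAlgClosed
  obtain ⟨hd, hu⟩ := ufd_tensor_mvPolynomial (k := k) (K := K) (σ := σ)
  haveI := hd
  haveI := hu
  letI : Algebra (MvPolynomial σ k) L := θ.toRingHom.toAlgebra
  haveI : IsScalarTower k (MvPolynomial σ k) L := .of_algebraMap_eq fun c => (θ.commutes c).symm
  haveI : IsLocalization (nonZeroDivisors (MvPolynomial σ k)) L := by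
    refine (isLocalization_iff _ _).2 ⟨fun y => isUnit_iff_ne_zero.2 fun h =>
      nonZeroDivisors.ne_zero y.2 (hθ (h.trans (map_zero θ).symm)), fun z => ?_, fun {x y} h => ⟨1, by rw [hθ h]⟩⟩
    obtain ⟨a, b, hb, e⟩ := hfrac z
    exact ⟨(a, ⟨b, mem_nonZeroDivisors_of_ne_zero fun h => hb (by rw [h, map_zero])⟩), e⟩
  let Φ : K ⊗[k] MvPolynomial σ k →ₐ[K] K ⊗[k] L := Algebra.TensorProduct.map (AlgHom.id K K) θ
  letI : Algebra (K ⊗[k] MvPolynomial σ k) (K ⊗[k] L) := Φ.toRingHom.toAlgebra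
  haveI : IsScalarTower K (K ⊗[k] MvPolynomial σ k) (K ⊗[k] L) := .of_algebraMap_eq fun c => (Φ.commutes c).symm
  have hloc : IsLocalization ((nonZeroDivisors (MvPolynomial σ k)).map
      (Algebra.TensorProduct.includeRight (R := k) (A := K))) (K ⊗[k] L) :=
    IsLocalization.tensorProduct_tensorProduct_right k K (nonZeroDivisors (MvPolynomial σ k)) L
      (RingHom.ext fun x => by
        show Φ ((1 : K) ⊗ₜ[k] x) = (1 : K) ⊗ₜ[k] θ x
        simp [Φ])
  set M := (nonZeroDivisors (MvPolynomial σ k)).map (Algebra.TensorProduct.includeRight (R := k) (A := K))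
  have hM : M ≤ nonZeroDivisors (K ⊗[k] MvPolynomial σ k) := by
    rintro _ ⟨m, hm, rfl⟩
    exact mem_nonZeroDivisors_of_ne_zero fun h => nonZeroDivisors.ne_zero hm
      ((Module.FaithfullyFlat.one_tmul_eq_zero_iff k (MvPolynomial σ k) (A := K) m).1 h)
  refine ⟨ExtReesLib.ufd_of_isLocalization M hM _, fun u hu => ?_⟩
  obtain ⟨⟨t, ⟨_, m, hm, rfl⟩⟩, e⟩ := IsLocalization.surj M u
  have hΦt : IsUnit (algebraMap _ (K ⊗[k] L) t) := by
    rw [← e]
    exact hu.mul (IsLocalization.map_units (K ⊗[k] L) (⟨_, m, hm, rfl⟩ : M))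
  obtain ⟨v, hv⟩ := hΦt.exists_right_inv
  obtain ⟨⟨t', ⟨_, m', hm', rfl⟩⟩, e'⟩ := IsLocalization.surj M v
  have hdvd : t ∣ (1 : K) ⊗ₜ[k] m' := ⟨t', IsLocalization.injective (K ⊗[k] L) hM (by
    rw [map_mul, ← e', ← mul_assoc, hv, one_mul]
    rfl)⟩
  obtain ⟨c, b, rfl⟩ := eq_tmul_of_dvd (nonZeroDivisors.ne_zero hm') hdvd
  have hc : c ≠ 0 := fun h => hΦt.ne_zero (by rw [h, zero_tmul, map_zero])
  have hb : b ≠ 0 := fun h => hΦt.ne_zero (by rw [h, tmul_zero, map_zero])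
  have hm0 : θ m ≠ 0 := fun h => nonZeroDivisors.ne_zero hm (hθ (h.trans (map_zero θ).symm))
  refine ⟨c, θ b / θ m, hc, div_ne_zero (fun h => hb (hθ (h.trans (map_zero θ).symm))) hm0, ?_⟩
  refine (IsLocalization.map_units (K ⊗[k] L) (⟨_, m, hm, rfl⟩ : M)).mul_right_cancel (e.trans ?_)
  show Φ (c ⊗ₜ[k] b) = c ⊗ₜ[k] (θ b / θ m) * Φ ((1 : K) ⊗ₜ[k] m)
  simp [Φ, div_mul_cancel₀ _ hm0]

end Groth.Agent.H28.ProdCl
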