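import Groth.Prelude.Def_Cyc
import Mathlib.AlgebraicGeometry.AffineSpace
import Mathlib.AlgebraicGeometry.FunctionField

/-!
# The function field of a rational variety
-/

set_option autoImplicit false
set_option linter.style.haveILetI false
set_option backward.isDefEq.respectTransparency false
set_option backward.isDefEq.respectTransparency.types false

universe u

open CategoryTheory AlgebraicGeometry

noncomputable section

namespace Groth.Agent.H28.ProdCl

/-- The structure map of a local ring of a scheme over `k`. -/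
def stalkStr {k : Type u} [Field k] {X : Scheme.{u}} (f : X ⟶ Spec (CommRingCat.of k)) (x : X) :
    k →+* X.presheaf.stalk x :=
  (Spec.preimage (X.fromSpecStalk x ≫ f)).hom

theorem specMap_stalkStr {k : Type u} [Field k] {X : Scheme.{u}} (f : X ⟶ Spec (CommRingCat.of k)) (x : X) :
    Spec.map (CommRingCat.ofHom (stalkStr f x)) = X.fromSpecStalk x ≫ f :=
  Spec.map_preimage (X.fromSpecStalk x ≫ f)

/-- The map to a local ring of an affine scheme. -/
def toSt (R : CommRingCat.{u}) (q : Spec R) : R →+* (Spec R).presheaf.stalk q := (StructureSheaf.toStalk R q).hom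

/-- The local ring at the generic point of an affine integral scheme. -/
theorem toStalk_genericPoint (R : CommRingCat.{u}) [IsDomain R] (q : Spec R) (hq : q = genericPoint (Spec R)) :
    Function.Injective (toSt R q) ∧
      ∀ x : (Spec R).presheaf.stalk q, ∃ a b : R, toSt R q b ≠ 0 ∧ x * toSt R q b = toSt R q a := by
  subst hq
  have h : IsFractionRing R (Spec R).functionField := inferInstance
  refine ⟨IsFractionRing.injective R (Spec R).functionField, fun x => ?_⟩
  obtain ⟨a, b, hb, e⟩ := IsFractionRing.div_surjective R (K := (Spec R).functionField) x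
  refine ⟨a, b, fun h0 => nonZeroDivisors.ne_zero hb (IsFractionRing.injective R (Spec R).functionField
    (h0.trans (map_zero _).symm)), ?_⟩
  have hb0 : algebraMap R (Spec R).functionField b ≠ 0 := fun h0 => nonZeroDivisors.ne_zero hb
    (IsFractionRing.injective R (Spec R).functionField (h0.trans (map_zero _).symm))
  have := (div_eq_iff hb0).1 e
  exact this.symm

variable {k : Type u} [Field k] {X : Scheme.{u}}

theorem exists_frac_of_openImmersion {W : Scheme.{u}} (f : X ⟶ Spec (CommRingCat.of k)) (ι₁ : W ⟶ X)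
    [IsOpenImmersion ι₁] {σ : Type u} (ι₂ : W ⟶ Spec (CommRingCat.of (MvPolynomial σ k))) [IsOpenImmersion ι₂]
    (h : ι₂ ≫ Spec.map (CommRingCat.ofHom (MvPolynomial.C : k →+* MvPolynomial σ k)) = ι₁ ≫ f) (w : W)
    (hw : ι₂ w = genericPoint (Spec (CommRingCat.of (MvPolynomial σ k)))) (η : X) (hη : ι₁ w = η) :
    ∃ θ : MvPolynomial σ k →+* X.presheaf.stalk η, θ.comp MvPolynomial.C = stalkStr f η ∧ Function.Injective θ ∧
      ∀ x, ∃ a b, θ b ≠ 0 ∧ x * θ b = θ a := by
  subst hη
  obtain ⟨hinj, hfrac⟩ := toStalk_genericPoint _ (ι₂ w) hw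
  let E : (Spec (CommRingCat.of (MvPolynomial σ k))).presheaf.stalk (ι₂ w) ≅ X.presheaf.stalk (ι₁ w) :=
    asIso (ι₂.stalkMap w) ≪≫ (asIso (ι₁.stalkMap w)).symm
  let θ : CommRingCat.of (MvPolynomial σ k) ⟶ X.presheaf.stalk (ι₁ w) :=
    StructureSheaf.toStalk (MvPolynomial σ k) (ι₂ w) ≫ E.hom
  refine ⟨θ.hom, ?_, (ConcreteCategory.bijective_of_isIso E.hom).1.comp hinj, fun x => ?_⟩
  · have key : Spec.map θ ≫ Spec.map (CommRingCat.ofHom (MvPolynomial.C : k →+* MvPolynomial σ k)) =
        X.fromSpecStalk (ι₁ w) ≫ f := by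
      have h1 : Spec.map θ = Spec.map (inv (ι₁.stalkMap w)) ≫ W.fromSpecStalk w ≫ ι₂ := by
        rw [← Scheme.SpecMap_stalkMap_fromSpecStalk, Spec.fromSpecStalk_eq', ← Spec.map_comp, ← Spec.map_comp]
        congr 1
      rw [h1, Category.assoc, Category.assoc, h, ← Scheme.SpecMap_stalkMap_fromSpecStalk_assoc,
        ← Spec.map_comp_assoc, IsIso.hom_inv_id, Spec.map_id, Category.id_comp]
    rw [← Spec.map_comp, ← specMap_stalkStr] at key
    exact congrArg CommRingCat.Hom.hom (Spec.map_injective key)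
  · obtain ⟨a, b, hb, e⟩ := hfrac (E.inv x)
    have hx : E.hom (E.inv x) = x := by rw [← CommRingCat.comp_apply, E.inv_hom_id, CommRingCat.id_apply]
    refine ⟨a, b, fun h0 => hb ((ConcreteCategory.bijective_of_isIso E.hom).1 (h0.trans (map_zero E.hom.hom).symm)), ?_⟩
    have := congrArg E.hom e
    rw [map_mul, hx] at this
    exact this

/-- A rational variety has a purely transcendental function field. -/
theorem exists_frac [IsIntegral X] (f : X ⟶ Spec (CommRingCat.of k)) (U : X.Opens) (hU : (U : Set X).Nonempty)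
    {n : Type u} (V : (𝔸(n; Spec (CommRingCat.of k))).Opens) (e : (U : Scheme.{u}) ≅ (V : Scheme.{u}))
    (he : e.hom ≫ V.ι ≫ (𝔸(n; Spec (CommRingCat.of k)) ↘ Spec (CommRingCat.of k)) = U.ι ≫ f) :
    ∃ θ : MvPolynomial n k →+* X.presheaf.stalk (genericPoint X), θ.comp MvPolynomial.C = stalkStr f (genericPoint X) ∧
      Function.Injective θ ∧ ∀ x, ∃ a b, θ b ≠ 0 ∧ x * θ b = θ a := by
  haveI : Nonempty ↥U.toScheme := ⟨⟨hU.some, hU.some_mem⟩⟩
  haveI : IsIntegral U.toScheme := isIntegral_of_isOpenImmersion U.ι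
  let ι₂ : U.toScheme ⟶ Spec (CommRingCat.of (MvPolynomial n k)) :=
    e.hom ≫ V.ι ≫ (AffineSpace.SpecIso n (CommRingCat.of k)).hom
  haveI : IsOpenImmersion ι₂ := inferInstance
  refine exists_frac_of_openImmersion f U.ι ι₂ ?_ (genericPoint U.toScheme)
    (genericPoint_eq_of_isOpenImmersion ι₂) _ (genericPoint_eq_of_isOpenImmersion U.ι)
  rw [← he, ← AffineSpace.SpecIso_inv_over (n := n) (CommRingCat.of k)]
  simp only [ι₂, Category.assoc, Iso.hom_inv_id_assoc]

end Groth.Agent.H28.ProdCl
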