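import Groth.Agent.H28.ProdCl.Gen
import Groth.Agent.CycLib.Div
import Groth.Agent.TameKey.DvrNorm
import Mathlib.AlgebraicGeometry.Stalk
import Mathlib.RingTheory.TensorProduct.Basic
import Mathlib.RingTheory.UniqueFactorizationDomain.Kaplansky

/-!
# The points of a product over both generic points
-/

set_option autoImplicit false
set_option linter.style.haveILetI false
set_option linter.unusedSectionVars false
set_option linter.overlappingInstances false
set_option backward.isDefEq.respectTransparency false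
set_option backward.isDefEq.respectTransparency.types false

universe u

open CategoryTheory CategoryTheory.Limits AlgebraicGeometry IsLocalRing TensorProduct

noncomputable section

namespace Groth.Agent.H28.ProdCl

section PullStalk

variable {P X : Scheme.{u}} (p : P ⟶ X) {η : X}

/-- Functions at `η` as functions at a point over `η`. -/
def pb (z : P) (h : p z ⤳ η) : X.presheaf.stalk η →+* P.presheaf.stalk z :=
  (X.presheaf.stalkSpecializes h ≫ p.stalkMap z).hom

theorem specMap_pb (z : P) (h : p z ⤳ η) :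
    Spec.map (CommRingCat.ofHom (pb p z h)) ≫ X.fromSpecStalk η = P.fromSpecStalk z ≫ p := by
  rw [pb, CommRingCat.ofHom_hom, Spec.map_comp, Category.assoc, Scheme.SpecMap_stalkSpecializes_fromSpecStalk,
    Scheme.SpecMap_stalkMap_fromSpecStalk]

theorem pb_comp_specializes (z w : P) (hw : w ⤳ z) (h : p z ⤳ η) (h' : p w ⤳ η) :
    (P.presheaf.stalkSpecializes hw).hom.comp (pb p z h) = pb p w h' := by
  have : CommRingCat.ofHom (pb p z h) ≫ P.presheaf.stalkSpecializes hw = CommRingCat.ofHom (pb p w h') := by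
    apply Spec.map_injective
    rw [← cancel_mono (X.fromSpecStalk η), Spec.map_comp, Category.assoc, specMap_pb, specMap_pb,
      Scheme.SpecMap_stalkSpecializes_fromSpecStalk_assoc]
  exact congrArg CommRingCat.Hom.hom this

theorem pb_comp_str {k : Type u} [Field k] (f : X ⟶ Spec (CommRingCat.of k)) (z : P) (h : p z ⤳ η) :
    (pb p z h).comp (stalkStr f η) = stalkStr (p ≫ f) z := by
  have : CommRingCat.ofHom (stalkStr f η) ≫ CommRingCat.ofHom (pb p z h) =
      CommRingCat.ofHom (stalkStr (p ≫ f) z) := by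
    apply Spec.map_injective
    rw [Spec.map_comp, specMap_stalkStr, specMap_stalkStr, ← Category.assoc, specMap_pb, Category.assoc]
  exact congrArg CommRingCat.Hom.hom this

end PullStalk

variable {k : Type u} [Field k] {X Y P : Scheme.{u}} {f : X ⟶ Spec (CommRingCat.of k)}
  {g : Y ⟶ Spec (CommRingCat.of k)} {p₁ : P ⟶ X} {p₂ : P ⟶ Y} (hP : IsPullback p₁ p₂ f g)
  [IsIntegral X] [IsIntegral Y] [Algebra k X.functionField] [Algebra k Y.functionField]

/-- The tensor product of the two function fields. -/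
abbrev LT (k : Type u) [Field k] (X Y : Scheme.{u}) [IsIntegral X] [IsIntegral Y] [Algebra k X.functionField]
    [Algebra k Y.functionField] : Type u := Y.functionField ⊗[k] X.functionField

/-- The inclusion of the function field of `X`. -/
def inX : X.functionField →+* LT k X Y :=
  (Algebra.TensorProduct.includeRight : X.functionField →ₐ[k] LT k X Y).toRingHom

/-- The inclusion of the function field of `Y`. -/
def inY : Y.functionField →+* LT k X Y := Algebra.TensorProduct.includeLeftRingHom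

/-- The compatibility of the algebra structures. -/
structure AlgCompat (f : X ⟶ Spec (CommRingCat.of k)) (g : Y ⟶ Spec (CommRingCat.of k)) : Prop where
  hX : (algebraMap k X.functionField) = stalkStr f (genericPoint X)
  hY : (algebraMap k Y.functionField) = stalkStr g (genericPoint Y)

variable (hA : AlgCompat f g)

/-- Points over both generic points. -/
structure Over2 (p₁ : P ⟶ X) (p₂ : P ⟶ Y) (z : P) : Prop where
  hx : p₁ z ⤳ genericPoint X
  hy : p₂ z ⤳ genericPoint Y

/-- The map to the local ring at a point over both generic points. -/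
def φ {z : P} (hz : Over2 p₁ p₂ z) : LT k X Y →+* P.presheaf.stalk z :=
  letI : Algebra k (P.presheaf.stalk z) := (stalkStr (p₁ ≫ f) z).toAlgebra
  (Algebra.TensorProduct.lift
    ({ pb p₂ z hz.hy with
        commutes' := fun c => by
          show pb p₂ z hz.hy (algebraMap k Y.functionField c) = stalkStr (p₁ ≫ f) z c
          rw [hA.hY, hP.w, ← pb_comp_str p₂ g z hz.hy]
          rfl } : Y.functionField →ₐ[k] P.presheaf.stalk z)
    ({ pb p₁ z hz.hx with
        commutes' := fun c => by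
          show pb p₁ z hz.hx (algebraMap k X.functionField c) = stalkStr (p₁ ≫ f) z c
          rw [hA.hX, ← pb_comp_str p₁ f z hz.hx]
          rfl } : X.functionField →ₐ[k] P.presheaf.stalk z)
    fun _ _ => Commute.all _ _).toRingHom

theorem φ_inX {z : P} (hz : Over2 p₁ p₂ z) : (φ hP hA hz).comp inX = pb p₁ z hz.hx := by
  ext a
  simp [φ, inX]

theorem φ_inY {z : P} (hz : Over2 p₁ p₂ z) : (φ hP hA hz).comp inY = pb p₂ z hz.hy := by
  ext a
  simp [φ, inY]

theorem φ_specializes {z w : P} (hwz : w ⤳ z) (hz : Over2 p₁ p₂ z) (hw : Over2 p₁ p₂ w) :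
    (P.presheaf.stalkSpecializes hwz).hom.comp (φ hP hA hz) = φ hP hA hw := by
  refine Algebra.TensorProduct.ringHom_ext ?_ ?_
  · show ((P.presheaf.stalkSpecializes hwz).hom.comp (φ hP hA hz)).comp inY = (φ hP hA hw).comp inY
    rw [RingHom.comp_assoc, φ_inY, φ_inY, pb_comp_specializes p₂ z w hwz]
  · show ((P.presheaf.stalkSpecializes hwz).hom.comp (φ hP hA hz)).comp inX = (φ hP hA hw).comp inX
    rw [RingHom.comp_assoc, φ_inX, φ_inX, pb_comp_specializes p₁ z w hwz]

include hA in
theorem algebraMap_LT : (inX (k := k) (X := X) (Y := Y)).comp (stalkStr f (genericPoint X)) =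
    (inY (k := k) (X := X) (Y := Y)).comp (stalkStr g (genericPoint Y)) := by
  rw [← hA.hX, ← hA.hY]
  ext c
  show (1 : Y.functionField) ⊗ₜ[k] algebraMap k X.functionField c = algebraMap k Y.functionField c ⊗ₜ[k] 1
  rw [Algebra.algebraMap_eq_smul_one, Algebra.algebraMap_eq_smul_one, tmul_smul, smul_tmul']

/-- The points over both generic points as a scheme. -/
def jj : Spec (CommRingCat.of (LT k X Y)) ⟶ P :=
  hP.lift (Spec.map (CommRingCat.ofHom inX) ≫ X.fromSpecStalk (genericPoint X))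
    (Spec.map (CommRingCat.ofHom inY) ≫ Y.fromSpecStalk (genericPoint Y)) (by
      rw [Category.assoc, Category.assoc, ← specMap_stalkStr, ← specMap_stalkStr, ← Spec.map_comp, ← Spec.map_comp,
        ← CommRingCat.ofHom_comp, ← CommRingCat.ofHom_comp, algebraMap_LT hA])

theorem specMap_φ {z : P} (hz : Over2 p₁ p₂ z) :
    Spec.map (CommRingCat.ofHom (φ hP hA hz)) ≫ jj hP hA = P.fromSpecStalk z := by
  apply hP.hom_ext
  · rw [jj, Category.assoc, hP.lift_fst, ← Spec.map_comp_assoc, ← CommRingCat.ofHom_comp, φ_inX, specMap_pb]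
  · rw [jj, Category.assoc, hP.lift_snd, ← Spec.map_comp_assoc, ← CommRingCat.ofHom_comp, φ_inY, specMap_pb]

include hP hA in
theorem eq_of_specMap_jj {R : CommRingCat.{u}} (a b : CommRingCat.of (LT k X Y) ⟶ R)
    (h : Spec.map a ≫ jj hP hA = Spec.map b ≫ jj hP hA) : a = b := by
  have h1 : Spec.map a ≫ Spec.map (CommRingCat.ofHom inX) = Spec.map b ≫ Spec.map (CommRingCat.ofHom inX) := by
    rw [← cancel_mono (X.fromSpecStalk (genericPoint X))]
    simpa [jj] using congrArg (· ≫ p₁) h
  have h2 : Spec.map a ≫ Spec.map (CommRingCat.ofHom inY) = Spec.map b ≫ Spec.map (CommRingCat.ofHom inY) := by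
    rw [← cancel_mono (Y.fromSpecStalk (genericPoint Y))]
    simpa [jj] using congrArg (· ≫ p₂) h
  rw [← Spec.map_comp, ← Spec.map_comp] at h1 h2
  exact CommRingCat.hom_ext (Algebra.TensorProduct.ringHom_ext
    (congrArg CommRingCat.Hom.hom (Spec.map_injective h2)) (congrArg CommRingCat.Hom.hom (Spec.map_injective h1)))

/-- The prime of a point. -/
def qq {z : P} (hz : Over2 p₁ p₂ z) : PrimeSpectrum (LT k X Y) :=
  PrimeSpectrum.comap (φ hP hA hz) (closedPoint (P.presheaf.stalk z))

theorem mem_qq {z : P} (hz : Over2 p₁ p₂ z) (c : LT k X Y) :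
    c ∈ (qq hP hA hz).asIdeal ↔ ¬ IsUnit (φ hP hA hz c) :=
  mem_maximalIdeal _

theorem jj_qq {z : P} (hz : Over2 p₁ p₂ z) : jj hP hA (qq hP hA hz) = z := by
  have h : (Spec.map (CommRingCat.ofHom (φ hP hA hz)) ≫ jj hP hA) (closedPoint (P.presheaf.stalk z)) =
      P.fromSpecStalk z (closedPoint (P.presheaf.stalk z)) := by rw [specMap_φ]; rfl
  rw [Scheme.fromSpecStalk_closedPoint] at h
  exact h

theorem over2_jj (s : PrimeSpectrum (LT k X Y)) : Over2 p₁ p₂ (jj hP hA s) := by
  constructor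
  · have h : X.fromSpecStalk (genericPoint X) (Spec.map (CommRingCat.ofHom (inX (k := k) (X := X) (Y := Y))) s) ∈
        Set.range (X.fromSpecStalk (genericPoint X)) := ⟨_, rfl⟩
    rw [Scheme.range_fromSpecStalk] at h
    rw [← Scheme.Hom.comp_apply, jj, hP.lift_fst, Scheme.Hom.comp_apply]
    exact h
  · have h : Y.fromSpecStalk (genericPoint Y) (Spec.map (CommRingCat.ofHom (inY (k := k) (X := X) (Y := Y))) s) ∈
        Set.range (Y.fromSpecStalk (genericPoint Y)) := ⟨_, rfl⟩
    rw [Scheme.range_fromSpecStalk] at h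
    rw [← Scheme.Hom.comp_apply, jj, hP.lift_snd, Scheme.Hom.comp_apply]
    exact h

theorem qq_jj (s : PrimeSpectrum (LT k X Y)) : qq hP hA (over2_jj hP hA s) = s := by
  have key : CommRingCat.ofHom (φ hP hA (over2_jj hP hA s)) ≫ (jj hP hA).stalkMap s =
      StructureSheaf.toStalk (LT k X Y) s := by
    refine eq_of_specMap_jj hP hA _ _ ?_
    rw [Spec.map_comp, Category.assoc, specMap_φ, Scheme.SpecMap_stalkMap_fromSpecStalk, Spec.fromSpecStalk_eq']
  refine PrimeSpectrum.ext (Ideal.ext fun c => ?_)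
  rw [mem_qq, ← isUnit_map_iff ((jj hP hA).stalkMap s).hom]
  rw [show ((jj hP hA).stalkMap s).hom (φ hP hA (over2_jj hP hA s) c) = StructureSheaf.toStalk (LT k X Y) s c from
    congrArg (fun ρ => ρ.hom c) key]
  exact (IsLocalization.AtPrime.isUnit_to_map_iff
    ((structurePresheafInCommRingCat (LT k X Y)).stalk s) s.asIdeal c).not.trans not_not

/-- The lift to the localisation. -/
def locLift {z : P} (hz : Over2 p₁ p₂ z) :
    Localization.AtPrime (qq hP hA hz).asIdeal →+* P.presheaf.stalk z :=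
  IsLocalization.lift (M := (qq hP hA hz).asIdeal.primeCompl) (g := φ hP hA hz)
    fun y => not_not.1 fun h => y.2 ((mem_qq hP hA hz y.1).2 h)

/-- The local ring is a localisation. -/
theorem exists_φ_frac {z : P} (hz : Over2 p₁ p₂ z) (x : P.presheaf.stalk z) :
    ∃ a b, b ∉ (qq hP hA hz).asIdeal ∧ x * φ hP hA hz b = φ hP hA hz a := by
  let R := CommRingCat.of (Localization.AtPrime (qq hP hA hz).asIdeal)
  let al : CommRingCat.of (LT k X Y) ⟶ R := CommRingCat.ofHom (algebraMap _ _)
  let m : Spec R ⟶ P := Spec.map al ≫ jj hP hA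
  have hm : m (closedPoint R) = z := by
    have : Spec.map al (closedPoint R) = qq hP hA hz :=
      PrimeSpectrum.ext (IsLocalization.AtPrime.under_maximalIdeal _ (qq hP hA hz).asIdeal)
    rw [show m (closedPoint R) = jj hP hA (Spec.map al (closedPoint R)) from rfl, this, jj_qq]
  let r : P.presheaf.stalk z ⟶ R := P.presheaf.stalkSpecializes (specializes_of_eq hm) ≫ Scheme.stalkClosedPointTo m
  have hr : Spec.map r ≫ P.fromSpecStalk z = m := by
    rw [Spec.map_comp, Category.assoc, Scheme.SpecMap_stalkSpecializes_fromSpecStalk,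
      Scheme.Spec_stalkClosedPointTo_fromSpecStalk]
  have hid : r ≫ CommRingCat.ofHom (locLift hP hA hz) = 𝟙 _ := by
    apply Spec.map_injective
    rw [← cancel_mono (P.fromSpecStalk z), Spec.map_comp, Category.assoc, hr, Spec.map_id]
    rw [show m = Spec.map al ≫ jj hP hA from rfl, ← Category.assoc, ← Spec.map_comp]
    refine Eq.trans ?_ (Category.id_comp _).symm
    rw [← specMap_φ hP hA hz]
    congr 2
    exact CommRingCat.hom_ext (RingHom.ext fun c => IsLocalization.lift_eq _ c)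
  obtain ⟨⟨a, b⟩, e⟩ := IsLocalization.surj (qq hP hA hz).asIdeal.primeCompl (r.hom x)
  refine ⟨a, b.1, b.2, ?_⟩
  have hx : locLift hP hA hz (r.hom x) = x := congrArg (fun ρ => ρ.hom x) hid
  have := congrArg (locLift hP hA hz) e
  rwa [map_mul, hx, locLift, IsLocalization.lift_eq, IsLocalization.lift_eq] at this

theorem qq_mono {z w : P} (hwz : w ⤳ z) (hz : Over2 p₁ p₂ z) (hw : Over2 p₁ p₂ w) :
    (qq hP hA hw).asIdeal ≤ (qq hP hA hz).asIdeal := fun c hc => by
  rw [mem_qq] at hc ⊢
  intro hu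
  apply hc
  rw [← φ_specializes hP hA hwz hz hw]
  exact hu.map (P.presheaf.stalkSpecializes hwz).hom

theorem Over2.of_specializes {z w : P} (hwz : w ⤳ z) (hz : Over2 p₁ p₂ z) : Over2 p₁ p₂ w :=
  ⟨(hwz.map p₁.continuous).trans hz.hx, (hwz.map p₂.continuous).trans hz.hy⟩

theorem eq_of_qq_eq {z w : P} (hz : Over2 p₁ p₂ z) (hw : Over2 p₁ p₂ w) (h : qq hP hA hz = qq hP hA hw) : z = w := by
  rw [← jj_qq hP hA hz, h, jj_qq hP hA hw]

theorem jj_specializes {s t : PrimeSpectrum (LT k X Y)} (h : s ≤ t) : jj hP hA s ⤳ jj hP hA t :=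
  ((PrimeSpectrum.le_iff_specializes s t).1 h).map (jj hP hA).continuous

section Generic

variable {ξ : P} (hgen : ∀ w : P, ξ ⤳ w) [IsDomain (LT k X Y)]

include hP hA hgen in
theorem over2_generic : Over2 p₁ p₂ ξ :=
  Over2.of_specializes (hgen _) (over2_jj hP hA ⟨⊥, Ideal.isPrime_bot⟩)

theorem qq_generic : (qq hP hA (over2_generic hP hA hgen)).asIdeal = ⊥ := by
  refine le_bot_iff.1 ?_
  have h := qq_mono hP hA (hgen (jj hP hA ⟨⊥, Ideal.isPrime_bot⟩)) (over2_jj hP hA _) (over2_generic hP hA hgen)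
  rwa [qq_jj] at h

/-- An element as a rational function on the product. -/
def Ψ : LT k X Y →+* P.residueField ξ := (P.residue ξ).hom.comp (φ hP hA (over2_generic hP hA hgen))

theorem Ψ_ne_zero {c : LT k X Y} (hc : c ≠ 0) : Ψ hP hA hgen c ≠ 0 := by
  have : IsUnit (φ hP hA (over2_generic hP hA hgen) c) := not_not.1 fun h => hc (by
    rwa [← mem_qq, qq_generic hP hA hgen, Ideal.mem_bot] at h)
  exact (this.map (P.residue ξ).hom).ne_zero

theorem exists_Ψ (F : P.residueField ξ) : ∃ a b, b ≠ 0 ∧ F * Ψ hP hA hgen b = Ψ hP hA hgen a := by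
  obtain ⟨x, rfl⟩ := P.residue_surjective ξ F
  obtain ⟨a, b, hb, e⟩ := exists_φ_frac hP hA (over2_generic hP hA hgen) x
  refine ⟨a, b, fun h => hb (h ▸ zero_mem _), ?_⟩
  show P.residue ξ x * P.residue ξ (φ hP hA _ b) = P.residue ξ (φ hP hA _ a)
  rw [← map_mul, e]

theorem specMap_φ_eq {z : P} (hz : Over2 p₁ p₂ z) (c : LT k X Y) :
    Cyc.specMap z ξ (hgen z) (φ hP hA hz c) = Ψ hP hA hgen c := by
  show P.residue ξ ((P.presheaf.stalkSpecializes (hgen z)).hom.comp (φ hP hA hz) c) = _
  rw [φ_specializes hP hA (hgen z) hz (over2_generic hP hA hgen)]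
  rfl

variable [UniqueFactorizationMonoid (LT k X Y)] {δ : P → ℤ} (hd : Cyc.IsDimFun P δ)

include hP hA hgen hd in
/-- Codimension one points over both generic points are given by prime elements. -/
theorem exists_prime_qq {z : P} (hz : Over2 p₁ p₂ z) (hx : δ z + 1 = δ ξ) :
    ∃ π, Prime π ∧ (qq hP hA hz).asIdeal = Ideal.span {π} := by
  have hne : (qq hP hA hz).asIdeal ≠ ⊥ := fun h => by
    have : z = ξ := eq_of_qq_eq hP hA hz (over2_generic hP hA hgen)
      (PrimeSpectrum.ext (h.trans (qq_generic hP hA hgen).symm))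
    rw [this] at hx
    omega
  obtain ⟨π, hπ, hpr⟩ := (qq hP hA hz).isPrime.exists_mem_prime_of_ne_bot hne
  refine ⟨π, hpr, ?_⟩
  let s : PrimeSpectrum (LT k X Y) := ⟨Ideal.span {π}, (Ideal.span_singleton_prime hpr.ne_zero).2 hpr⟩
  have hs : s ≤ qq hP hA hz := (Ideal.span_singleton_le_iff_mem _).2 hπ
  have hwz : jj hP hA s ⤳ z := by
    have := jj_specializes hP hA hs
    rwa [jj_qq] at this
  have hwξ : ξ ≠ jj hP hA s := fun e => hpr.ne_zero (Ideal.span_singleton_eq_bot.1 (by
    have h := qq_mono hP hA (specializes_of_eq e.symm) (over2_generic hP hA hgen) (over2_jj hP hA s)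
    rw [qq_jj, qq_generic hP hA hgen, le_bot_iff] at h
    exact h))
  have h1 := (hd ξ _ (hgen _) hwξ).1
  have hwz' : jj hP hA s = z := by
    by_contra hne'
    have := (hd _ z hwz hne').1
    omega
  subst hwz'
  rw [qq_jj]

include hP hA hgen hd in
/-- A prime element gives a codimension one point over both generic points. -/
theorem exists_point_of_prime {π : LT k X Y} (hπ : Prime π) :
    ∃ (z : P) (hz : Over2 p₁ p₂ z), δ z + 1 = δ ξ ∧ (qq hP hA hz).asIdeal = Ideal.span {π} := by
  let s : PrimeSpectrum (LT k X Y) := ⟨Ideal.span {π}, (Ideal.span_singleton_prime hπ.ne_zero).2 hπ⟩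
  refine ⟨jj hP hA s, over2_jj hP hA s, ?_, by rw [qq_jj]⟩
  have hne : ξ ≠ jj hP hA s := fun e => hπ.ne_zero (Ideal.span_singleton_eq_bot.1 (by
    have h := qq_mono hP hA (specializes_of_eq e.symm) (over2_generic hP hA hgen) (over2_jj hP hA s)
    rw [qq_jj, qq_generic hP hA hgen, le_bot_iff] at h
    exact h))
  refine ((hd ξ _ (hgen _) hne).2 fun w hw hwz => ?_).symm
  have hw2 := Over2.of_specializes hwz (over2_jj hP hA s)
  have hle := qq_mono hP hA hwz (over2_jj hP hA s) hw2
  rw [qq_jj] at hle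
  by_cases h0 : (qq hP hA hw2).asIdeal = ⊥
  · exact Or.inl (eq_of_qq_eq hP hA hw2 (over2_generic hP hA hgen)
      (PrimeSpectrum.ext (h0.trans (qq_generic hP hA hgen).symm)))
  · obtain ⟨p, hp, hpp⟩ := (qq hP hA hw2).isPrime.exists_mem_prime_of_ne_bot h0
    have hpπ : Associated π p := hπ.associated_of_dvd hpp (Ideal.mem_span_singleton.1 (hle hp))
    refine Or.inr (eq_of_qq_eq hP hA hw2 (over2_jj hP hA s) (PrimeSpectrum.ext ?_))
    rw [qq_jj]
    refine le_antisymm hle ((Ideal.span_singleton_le_iff_mem _).2 ?_)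
    obtain ⟨u, hu⟩ := hpπ.symm
    rw [← hu]
    exact Ideal.mul_mem_right _ _ hp

section Ord

variable [IsLocallyNoetherian P] {z : P} (hz : Over2 p₁ p₂ z) (hx : δ z + 1 = δ ξ)

include hP hA hgen hd hz hx in
theorem ordAt_Ψ_nonneg {c : LT k X Y} (hc : c ≠ 0) : 0 ≤ Cyc.ordAt z ξ (hgen z) (Ψ hP hA hgen c) := by
  rw [← specMap_φ_eq hP hA hgen hz, ← CycLib.algebraMap_locQuot_mk, CycLib.ordAt_algebraMap hd (hgen z) hx]
  · exact Nat.cast_nonneg _
  · intro h0
    rw [Ideal.Quotient.eq_zero_iff_mem, RingHom.mem_ker, specMap_φ_eq hP hA hgen hz] at h0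
    exact Ψ_ne_zero hP hA hgen hc h0

include hP hA hgen hd hz hx in
theorem ordAt_Ψ_eq_zero {c : LT k X Y} (hc : c ∉ (qq hP hA hz).asIdeal) :
    Cyc.ordAt z ξ (hgen z) (Ψ hP hA hgen c) = 0 := by
  rw [← specMap_φ_eq hP hA hgen hz]
  exact CycLib.ordAt_eq_zero_of_isUnit hd (hgen z) hx (not_not.1 fun h => hc ((mem_qq hP hA hz c).2 h))

include hP hA hgen hd hz hx in
theorem ordAt_Ψ_prime {π : LT k X Y} (hπ : (qq hP hA hz).asIdeal = Ideal.span {π}) (h0 : π ≠ 0) :
    Cyc.ordAt z ξ (hgen z) (Ψ hP hA hgen π) = 1 := by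
  have hmax : maximalIdeal (P.presheaf.stalk z) = Ideal.span {φ hP hA hz π} := by
    refine le_antisymm (fun x hx' => ?_) ((Ideal.span_singleton_le_iff_mem _).2 ?_)
    · obtain ⟨a, b, hb, e⟩ := exists_φ_frac hP hA hz x
      have hu : IsUnit (φ hP hA hz b) := not_not.1 fun h => hb ((mem_qq hP hA hz b).2 h)
      have ha : a ∈ (qq hP hA hz).asIdeal := by
        rw [mem_qq, ← mem_nonunits_iff, ← mem_maximalIdeal, ← e]
        exact Ideal.mul_mem_right _ _ hx'
      rw [hπ, Ideal.mem_span_singleton] at ha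
      obtain ⟨a', rfl⟩ := ha
      refine (Ideal.mul_unit_mem_iff_mem _ hu).1 ?_
      rw [e, map_mul]
      exact Ideal.mul_mem_right _ _ (Ideal.mem_span_singleton_self _)
    · rw [mem_maximalIdeal, mem_nonunits_iff, ← mem_qq, hπ]
      exact Ideal.mem_span_singleton_self _
  have hmaxQ : maximalIdeal (Cyc.LocQuot z ξ (hgen z)) = Ideal.span {Ideal.Quotient.mk _ (φ hP hA hz π)} := by
    rw [← Set.image_singleton, ← Ideal.map_span, ← hmax]
    haveI : IsLocalHom (Ideal.Quotient.mk (RingHom.ker (Cyc.specMap z ξ (hgen z)))) :=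
      IsLocalHom.of_surjective _ Ideal.Quotient.mk_surjective
    refine le_antisymm (fun b hb => ?_) (Ideal.map_le_iff_le_comap.2 fun a ha => ?_)
    · obtain ⟨a, rfl⟩ := Ideal.Quotient.mk_surjective b
      exact Ideal.mem_map_of_mem _ ((mem_maximalIdeal _).2 fun h => (mem_maximalIdeal _).1 hb (h.map _))
    · rw [Ideal.mem_comap, mem_maximalIdeal, mem_nonunits_iff, isUnit_map_iff]
      exact (mem_maximalIdeal _).1 ha
  rw [← specMap_φ_eq hP hA hgen hz]
  haveI := CycLib.krullDimLE_locQuot hd (hgen z) hx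
  rw [← CycLib.algebraMap_locQuot_mk, CycLib.ordAt_algebraMap hd (hgen z) hx, TameKey.ord_irreducible hmaxQ]
  · rfl
  · intro h
    rw [Ideal.Quotient.eq_zero_iff_mem, RingHom.mem_ker, specMap_φ_eq hP hA hgen hz] at h
    exact Ψ_ne_zero hP hA hgen h0 h

end Ord

include hP hA hgen hd in
/-- A function without zeros or poles over both generic points comes from a unit. -/
theorem exists_unit_Ψ [IsLocallyNoetherian P] {F : P.residueField ξ} (hF : F ≠ 0)
    (h : ∀ z, Over2 p₁ p₂ z → δ z + 1 = δ ξ → Cyc.divFun δ ξ F z = 0) :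
    ∃ u, IsUnit u ∧ F = Ψ hP hA hgen u := by
  obtain ⟨a, b, hb, e⟩ := exists_Ψ hP hA hgen F
  have ha : a ≠ 0 := fun h0 => by
    rw [h0, map_zero, mul_eq_zero] at e
    exact e.elim hF (Ψ_ne_zero hP hA hgen hb)
  obtain ⟨a', b', c', hrel, rfl, rfl⟩ := UniqueFactorizationMonoid.exists_reduced_factors' a b hb
  have hc : c' ≠ 0 := left_ne_zero_of_mul hb
  have ha' := right_ne_zero_of_mul ha
  have hb' := right_ne_zero_of_mul hb
  have e' : F * Ψ hP hA hgen b' = Ψ hP hA hgen a' := mul_left_cancel₀ (Ψ_ne_zero hP hA hgen hc) (by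
    rw [← map_mul, ← e, map_mul]; ring)
  have key : ∀ π, Prime π → (π ∣ a' → False) ∧ (π ∣ b' → False) := by
    intro π hπ
    obtain ⟨z, hz, hx, hq⟩ := exists_point_of_prime hP hA hgen hd hπ
    have hsum := congrArg (Cyc.ordAt z ξ (hgen z)) e'
    have hFz := h z hz hx
    rw [CycLib.divFun_eq δ _ (hgen z) hx] at hFz
    rw [CycLib.ordAt_mul hd (hgen z) hx hF (Ψ_ne_zero hP hA hgen hb'), hFz, zero_add] at hsum
    have pos : ∀ t : LT k X Y, t ≠ 0 → π ∣ t → 1 ≤ Cyc.ordAt z ξ (hgen z) (Ψ hP hA hgen t) := by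
      rintro _ ht ⟨t, rfl⟩
      rw [map_mul, CycLib.ordAt_mul hd (hgen z) hx (Ψ_ne_zero hP hA hgen hπ.ne_zero)
        (Ψ_ne_zero hP hA hgen (right_ne_zero_of_mul ht)), ordAt_Ψ_prime hP hA hgen hd hz hx hq hπ.ne_zero]
      have := ordAt_Ψ_nonneg hP hA hgen hd hz hx (right_ne_zero_of_mul ht)
      omega
    have zer : ∀ t : LT k X Y, ¬ π ∣ t → Cyc.ordAt z ξ (hgen z) (Ψ hP hA hgen t) = 0 := fun t ht =>
      ordAt_Ψ_eq_zero hP hA hgen hd hz hx (by rwa [hq, Ideal.mem_span_singleton])
    constructor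
    · intro hd'
      have := pos a' ha' hd'
      have := zer b' (fun hd'' => hπ.not_isUnit (hrel hd' hd''))
      omega
    · intro hd'
      have := pos b' hb' hd'
      have := zer a' (fun hd'' => hπ.not_isUnit (hrel hd'' hd'))
      omega
  have hu : ∀ t : LT k X Y, t ≠ 0 → (∀ π, Prime π → ¬ π ∣ t) → IsUnit t := fun t ht hno => by
    by_contra hnu
    obtain ⟨π, hπ, hdvd⟩ := WfDvdMonoid.exists_irreducible_factor hnu ht
    exact hno π (UniqueFactorizationMonoid.irreducible_iff_prime.1 hπ) hdvd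
  obtain ⟨ua, rfl⟩ := hu a' ha' fun π hπ => (key π hπ).1
  obtain ⟨ub, rfl⟩ := hu b' hb' fun π hπ => (key π hπ).2
  refine ⟨↑(ua * ub⁻¹), Units.isUnit _, mul_right_cancel₀ (Ψ_ne_zero hP hA hgen ub.ne_zero) ?_⟩
  rw [e', ← map_mul, Units.val_mul, mul_assoc, Units.inv_mul, mul_one]

open scoped Classical in
include hP hA hgen hd in
/-- Functions with given orders at finitely many points. -/
theorem exists_fun_horiz [IsLocallyNoetherian P] (S : Finset P) (c : P → ℤ) :
    ∃ F : P.residueField ξ, F ≠ 0 ∧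
      ∀ z, Over2 p₁ p₂ z → δ z + 1 = δ ξ → Cyc.divFun δ ξ F z = if z ∈ S then c z else 0 := by
  classical
  induction S using Finset.induction_on with
  | empty =>
    refine ⟨1, one_ne_zero, fun z _ hx => ?_⟩
    rw [CycLib.divFun_eq δ _ (hgen z) hx, CycLib.ordAt_one hd (hgen z) hx]
    simp
  | insert z₀ S hz₀ ih =>
    obtain ⟨F, hF, hFd⟩ := ih
    by_cases h0 : Over2 p₁ p₂ z₀ ∧ δ z₀ + 1 = δ ξ
    · obtain ⟨h2, hx₀⟩ := h0
      obtain ⟨π, hπ, hq⟩ := exists_prime_qq hP hA hgen hd h2 hx₀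
      have hne := Ψ_ne_zero hP hA hgen hπ.ne_zero
      have hval : ∀ z, Over2 p₁ p₂ z → δ z + 1 = δ ξ →
          Cyc.divFun δ ξ (Ψ hP hA hgen π) z = if z = z₀ then 1 else 0 := by
        intro z hz hx
        rw [CycLib.divFun_eq δ _ (hgen z) hx]
        by_cases he : z = z₀
        · subst he
          rw [if_pos rfl, ordAt_Ψ_prime hP hA hgen hd hz hx hq hπ.ne_zero]
        · rw [if_neg he, ordAt_Ψ_eq_zero hP hA hgen hd hz hx]
          intro hmem
          obtain ⟨π', hπ', hq'⟩ := exists_prime_qq hP hA hgen hd hz hx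
          rw [hq', Ideal.mem_span_singleton] at hmem
          exact he (eq_of_qq_eq hP hA hz h2 (PrimeSpectrum.ext (by
            rw [hq', hq, Ideal.span_singleton_eq_span_singleton]
            exact hπ'.associated_of_dvd hπ hmem)))
      have hzp : ∀ (n : ℤ) z, Over2 p₁ p₂ z → δ z + 1 = δ ξ →
          Cyc.divFun δ ξ (Ψ hP hA hgen π ^ n) z = n * if z = z₀ then 1 else 0 := by
        intro n z hz hx
        rw [← hval z hz hx]
        induction n using Int.induction_on with
        | zero => rw [zpow_zero, CycLib.divFun_eq δ _ (hgen z) hx, CycLib.ordAt_one hd (hgen z) hx, zero_mul]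
        | succ n ih => rw [zpow_add_one₀ hne, CycLib.divFun_mul hd (zpow_ne_zero _ hne) hne, Pi.add_apply, ih]; ring
        | pred n ih =>
          rw [zpow_sub_one₀ hne, CycLib.divFun_mul hd (zpow_ne_zero _ hne) (inv_ne_zero hne), Pi.add_apply, ih,
            CycLib.divFun_inv hd hne, Pi.neg_apply]
          ring
      refine ⟨F * Ψ hP hA hgen π ^ c z₀, mul_ne_zero hF (zpow_ne_zero _ hne), fun z hz hx => ?_⟩
      rw [CycLib.divFun_mul hd hF (zpow_ne_zero _ hne), Pi.add_apply, hFd z hz hx, hzp _ z hz hx]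
      by_cases he : z = z₀
      · subst he
        simp [hz₀]
      · simp [he]
    · refine ⟨F, hF, fun z hz hx => ?_⟩
      rw [hFd z hz hx]
      have : z ≠ z₀ := fun e => h0 (e ▸ ⟨hz, hx⟩)
      simp [this]

end Generic

end Groth.Agent.H28.ProdCl
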