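import Groth.Agent.H28.ProdCl.Basic
import Groth.Agent.H28.ProdCl.Alg
import Groth.Agent.H28.ProdCl.Horiz
import Groth.Agent.CycLib.Flat
import Groth.Agent.S1905

/-!
# Divisor classes of a product with a rational variety
-/

set_option autoImplicit false
set_option linter.style.haveILetI false
set_option linter.unusedSectionVars false
set_option linter.overlappingInstances false
set_option backward.isDefEq.respectTransparency false
set_option backward.isDefEq.respectTransparency.types false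

universe u

open CategoryTheory CategoryTheory.Limits AlgebraicGeometry IsLocalRing TensorProduct

noncomputable section

namespace Groth.Agent.H28.ProdCl

variable {k : Type u} [Field k] [IsAlgClosed k] {X Y P : Scheme.{u}} {f : X ⟶ Spec (CommRingCat.of k)}
  {g : Y ⟶ Spec (CommRingCat.of k)} {p₁ : P ⟶ X} {p₂ : P ⟶ Y}
  [IsIntegral X] [IsIntegral Y] [IsIntegral P] [LocallyOfFiniteType f] [LocallyOfFiniteType g]
  [LocallyOfFiniteType p₁] [LocallyOfFiniteType p₂] [GeometricallyIntegral p₁] [GeometricallyIntegral p₂]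
  (hP : IsPullback p₁ p₂ f g) {δX : X → ℤ} {δY : Y → ℤ} {δP : P → ℤ}
  (hc₁ : Cyc.DeltaCompat p₁ δP δX) (hc₂ : Cyc.DeltaCompat p₂ δP δY)

theorem map_genericPoint_fst : p₁ (genericPoint P) = genericPoint X := by
  have h : p₁ (genericPoint P) ⤳ p₁ (gen p₁ (genericPoint X)) :=
    ((genericPoint_spec P).specializes (Set.mem_univ _)).map p₁.continuous
  rw [apply_gen] at h
  exact (h.antisymm ((genericPoint_spec X).specializes (Set.mem_univ _))).eq

theorem genericPoint_eq_gen : genericPoint P = gen p₁ (genericPoint X) := by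
  have h := eq_gen_of_fibMax p₁ (z := genericPoint P) fun w hw _ =>
    (hw.antisymm ((genericPoint_spec P).specializes (Set.mem_univ w))).eq
  rwa [map_genericPoint_fst] at h

include hP hc₁ in
theorem delta_generic : δP (genericPoint P) = δX (genericPoint X) + FibDim.rd g (genericPoint Y) := by
  rw [CycLib.deltaCompat_eq p₁ hc₁, map_genericPoint_fst, genericPoint_eq_gen (p₁ := p₁),
    (snd_gen hP (genericPoint X)).1]

include hP hc₁ in
theorem delta_gen (D : X) : δP (gen p₁ D) = δX D + (δP (genericPoint P) - δX (genericPoint X)) := by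
  rw [delta_generic hP hc₁, CycLib.deltaCompat_eq p₁ hc₁, (snd_gen hP D).1, apply_gen]
  omega

include hP hc₁ hc₂ in
theorem delta_sub_rd (D : X) (E : Y) :
    δX D - (FibDim.rd f D : ℤ) = δY E - (FibDim.rd g E : ℤ) := by
  obtain ⟨w, hw₁, hw₂⟩ := Scheme.Pullback.exists_preimage_pullback (f := f) (g := g) D E (Subsingleton.elim _ _)
  obtain ⟨z, h₁, h₂⟩ : ∃ z, p₁ z = D ∧ p₂ z = E := ⟨hP.isoPullback.inv w, by
    rw [← Scheme.Hom.comp_apply, IsPullback.isoPullback_inv_fst]; exact hw₁, by
    rw [← Scheme.Hom.comp_apply, IsPullback.isoPullback_inv_snd]; exact hw₂⟩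
  have e := rd_comp_eq hP z
  have e₁ := CycLib.deltaCompat_eq p₁ hc₁ z
  have e₂ := CycLib.deltaCompat_eq p₂ hc₂ z
  rw [h₁] at e e₁
  rw [h₂] at e e₂
  omega

include hP hc₁ hc₂ in
/-- A codimension one point not over the generic point of `X`. -/
theorem eq_gen_of_codimOne {z : P} (hz : δP z + 1 = δP (genericPoint P)) (h : p₁ z ≠ genericPoint X) :
    z = gen p₁ (p₁ z) ∧ p₂ z = genericPoint Y := by
  have e₁ := CycLib.deltaCompat_eq p₁ hc₁ z
  have e := delta_generic hP hc₁
  have c₁ := delta_sub_rd hP hc₁ hc₂ (p₁ z) (genericPoint Y)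
  have c₂ := delta_sub_rd hP hc₁ hc₂ (genericPoint X) (genericPoint Y)
  have h1 := FibDim.rd_baseChange_le hP.flip z
  have h2 := rd_le_generic (f := g) (p₂ z)
  have h3 := rd_lt_generic (f := f) h
  have hg : z = gen p₁ (p₁ z) := eq_gen_of_rd_eq hP (by omega)
  refine ⟨hg, ?_⟩
  rw [hg]
  exact (snd_gen hP (p₁ z)).2

include hP in
theorem hasRelDim_fst : Cyc.HasRelDim p₁ (FibDim.rd g (genericPoint Y)) := by
  refine (CycLib.hasRelDim_iff p₁).2 fun z hz => ?_
  rw [eq_gen_of_fibMax p₁ hz, (snd_gen hP (p₁ z)).1]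

include hP hc₁ in
/-- The divisor of a function pulled back from `X`. -/
theorem divFun_pullback [Flat p₁] (hsX : Cyc.IsSetup X δX) (hsP : Cyc.IsSetup P δP)
    (a : X.residueField (p₁ (genericPoint P))) (ha : a ≠ 0) :
    Cyc.divFun δP (genericPoint P) (p₁.residueFieldMap (genericPoint P) a) =
      Cyc.pullFun p₁ δP δX (δP (genericPoint P) - δX (genericPoint X)) (Cyc.divFun δX (p₁ (genericPoint P)) a) := by
  rw [← Groth.Agent.S1905.result P X δP δX hsP hsX p₁ _ (hasRelDim_fst hP) hc₁ a ha]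
  congr 1
  rw [delta_generic hP hc₁]
  omega

open scoped Classical in
include hP hc₁ in
theorem pullFun_fst' (α : X → ℤ) (z : P) :
    Cyc.pullFun p₁ δP δX (δP (genericPoint P) - δX (genericPoint X)) α z =
      if z = gen p₁ (p₁ z) then α (p₁ z) else 0 :=
  pullFun_fst hP hc₁ _ (by rw [delta_generic hP hc₁]; omega) α z

include hP hc₁ in
theorem pullFun_at_gen (α : X → ℤ) (D : X) :
    Cyc.pullFun p₁ δP δX (δP (genericPoint P) - δX (genericPoint X)) α (gen p₁ D) = α D := by
  classical
  rw [pullFun_fst' hP hc₁, if_pos (by rw [apply_gen]), apply_gen]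

include hP hc₂ in
theorem pullFun_snd_at_gen (β : Y → ℤ) {D : X} (hD : D ≠ genericPoint X) :
    Cyc.pullFun p₂ δP δY (δP (genericPoint P) - δY (genericPoint Y)) β (gen p₁ D) = 0 := by
  classical
  rw [pullFun_fst' hP.flip hc₂, if_neg]
  intro e
  rw [(snd_gen hP D).2, ← genericPoint_eq_gen (p₁ := p₂)] at e
  exact hD (by rw [← apply_gen p₁ D, e, map_genericPoint_fst])

/-- A cycle from a function with finite support. -/
def mkCycle {W : Scheme.{u}} (c : W → ℤ) (hc : (Function.support c).Finite) : AlgebraicCycle W ℤ where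
  toFun := c
  supportWithinDomain' := fun _ _ => trivial
  supportLocallyFiniteWithinDomain' := fun _ _ => ⟨Set.univ, Filter.univ_mem, hc.subset Set.inter_subset_right⟩

theorem mkCycle_apply {W : Scheme.{u}} (c : W → ℤ) (hc : (Function.support c).Finite) (w : W) :
    mkCycle c hc w = c w := rfl

theorem finite_support {W : Scheme.{u}} [CompactSpace W] (c : AlgebraicCycle W ℤ) :
    (Function.support ⇑c).Finite := by
  have := c.locallyFiniteSupport.finite_inter_support_of_isCompact isCompact_univ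
  rwa [Set.univ_inter] at this

theorem finite_divFun {W : Scheme.{u}} [CompactSpace W] [IsLocallyNoetherian W] {δ : W → ℤ}
    (hd : Cyc.IsDimFun W δ) {ξ : W} {F : W.residueField ξ} (hF : F ≠ 0) :
    (Function.support (Cyc.divFun δ ξ F)).Finite := by
  choose U hU hxU using fun x : W => exists_isAffineOpen_mem_and_subset (x := x) (U := (⊤ : W.Opens)) trivial
  obtain ⟨t, ht⟩ := isCompact_univ.elim_finite_subcover (fun x => (U x : Set W)) (fun x => (U x).2)
    fun x _ => Set.mem_iUnion.2 ⟨x, (hxU x).1⟩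
  refine (t.finite_toSet.biUnion fun x _ => CycLib.finite_divFun_support hd (hU x) (ξ := ξ) (f := F) hF).subset
    fun w hw => ?_
  obtain ⟨x, hx, hwx⟩ := Set.mem_iUnion₂.1 (ht (Set.mem_univ w))
  exact Set.mem_iUnion₂.2 ⟨x, hx, hwx, hw⟩

theorem ratEquivZero_single {W : Scheme.{u}} {δ : W → ℤ} {d : ℤ} {ξ : W} (hξ : δ ξ = d + 1)
    {F : W.residueField ξ} (hF : F ≠ 0) (c : AlgebraicCycle W ℤ) (hc : ∀ w, c w = Cyc.divFun δ ξ F w) :
    Cyc.RatEquivZero δ d c := by
  refine ⟨PUnit, fun _ => ξ, fun _ => F, fun _ => hξ, fun _ => hF, fun w => ⟨Set.univ, isOpen_univ, trivial,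
    Set.toFinite _⟩, fun w => ?_⟩
  rw [hc w, finsum_unique]

theorem exists_single_of_ratEquivZero {W : Scheme.{u}} [IsIntegral W] [IsLocallyNoetherian W] {δ : W → ℤ}
    (hd : Cyc.IsDimFun W δ) {c : AlgebraicCycle W ℤ}
    (hc : Cyc.RatEquivZero δ (δ (genericPoint W) - 1) c) :
    ∃ F : W.residueField (genericPoint W), F ≠ 0 ∧ ∀ w, c w = Cyc.divFun δ (genericPoint W) F w := by
  obtain ⟨ι, ξ, F, hξ, hF, hfin, hsum⟩ := hc
  have hgen : ξ = fun _ => genericPoint W := funext fun i => by
    by_contra hne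
    have := (hd _ _ ((genericPoint_spec W).specializes (Set.mem_univ (ξ i))) (Ne.symm hne)).1
    have := hξ i
    omega
  subst hgen
  obtain ⟨U, -, hηU, hUfin⟩ := hfin (genericPoint W)
  haveI : Finite ι := Set.finite_univ_iff.1 (hUfin.subset fun i _ => ⟨genericPoint W, subset_closure rfl, hηU⟩)
  haveI := Fintype.ofFinite ι
  have key : ∀ s : Finset ι, (∏ i ∈ s, F i) ≠ 0 ∧
      Cyc.divFun δ (genericPoint W) (∏ i ∈ s, F i) = ∑ i ∈ s, Cyc.divFun δ (genericPoint W) (F i) := by
    classical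
    intro s
    induction s using Finset.induction_on with
    | empty =>
      refine ⟨by simp, funext fun w => ?_⟩
      by_cases h : genericPoint W ⤳ w ∧ δ w + 1 = δ (genericPoint W)
      · rw [Finset.prod_empty, Finset.sum_empty, Pi.zero_apply, CycLib.divFun_eq δ _ h.1 h.2,
          CycLib.ordAt_one hd h.1 h.2]
      · simp [Cyc.divFun, h]
    | insert i s hi ih =>
      rw [Finset.prod_insert hi, Finset.sum_insert hi]
      exact ⟨mul_ne_zero (hF i) ih.1, by rw [CycLib.divFun_mul hd (hF i) ih.1, ih.2]⟩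
  refine ⟨∏ i, F i, (key _).1, fun w => ?_⟩
  rw [(key _).2, hsum w, finsum_eq_sum_of_fintype, Finset.sum_apply]

variable [Algebra k X.functionField] [Algebra k Y.functionField] (hA : AlgCompat f g)
  [IsDomain (LT k X Y)] [UniqueFactorizationMonoid (LT k X Y)] [CompactSpace X] [CompactSpace Y] [CompactSpace P]
  (hsP : Cyc.IsSetup P δP)

include hP hA hc₁ hc₂ hsP in
theorem surj : ∀ γ ∈ Cyc.Zk P δP (δP (genericPoint P) - 1),
    ∃ α ∈ Cyc.Zk X δX (δX (genericPoint X) - 1), ∃ β ∈ Cyc.Zk Y δY (δY (genericPoint Y) - 1),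
      ∃ γ' : AlgebraicCycle P ℤ,
        (∀ z, γ' z = Cyc.pullFun p₁ δP δX (δP (genericPoint P) - δX (genericPoint X)) α z +
          Cyc.pullFun p₂ δP δY (δP (genericPoint P) - δY (genericPoint Y)) β z) ∧
        Cyc.RatEquiv δP (δP (genericPoint P) - 1) γ γ' := by
  classical
  intro γ hγ
  haveI := hsP.1
  have hgen : ∀ w : P, genericPoint P ⤳ w := fun w => (genericPoint_spec P).specializes (Set.mem_univ w)
  obtain ⟨F, hF, hFd⟩ := exists_fun_horiz hP hA hgen hsP.2.2 (finite_support γ).toFinset ⇑γ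
  let γ₁ : P → ℤ := fun z => γ z - Cyc.divFun δP (genericPoint P) F z
  have hfin : (Function.support γ₁).Finite :=
    ((finite_support γ).union (finite_divFun hsP.2.2 hF)).subset (Function.support_sub _ _)
  have hcod : ∀ z, γ₁ z ≠ 0 → δP z + 1 = δP (genericPoint P) := fun z hz => by
    by_contra hne
    exact hz (by simp [γ₁, hγ z (by omega), CycLib.divFun_eq_zero_of_delta δP F hne])
  have hhor : ∀ z, Over2 p₁ p₂ z → γ₁ z = 0 := fun z hz => by
    by_contra hne
    have := hFd z hz (hcod z hne)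
    apply hne
    simp only [γ₁, this]
    split_ifs with h
    · exact sub_self _
    · rw [sub_zero]
      by_contra h'
      exact h ((finite_support γ).mem_toFinset.2 h')
  have hα : (Function.support fun D => γ₁ (gen p₁ D)).Finite :=
    (hfin.image p₁).subset fun D hD => ⟨_, hD, apply_gen p₁ D⟩
  have hβ : (Function.support fun E => γ₁ (gen p₂ E)).Finite :=
    (hfin.image p₂).subset fun E hE => ⟨_, hE, apply_gen p₂ E⟩
  refine ⟨mkCycle _ hα, fun D hD => ?_, mkCycle _ hβ, fun E hE => ?_, mkCycle γ₁ hfin, fun z => ?_,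
    ratEquivZero_single (ξ := genericPoint P) (by omega) hF _ fun z => ?_⟩
  · show γ₁ (gen p₁ D) = 0
    by_contra hne
    have := hcod _ hne
    have := delta_gen hP hc₁ D
    omega
  · show γ₁ (gen p₂ E) = 0
    by_contra hne
    have := hcod _ hne
    have := delta_gen hP.flip hc₂ E
    omega
  · rw [pullFun_fst' hP hc₁, pullFun_fst' hP.flip hc₂]
    show γ₁ z = (if z = gen p₁ (p₁ z) then γ₁ (gen p₁ (p₁ z)) else 0) +
      (if z = gen p₂ (p₂ z) then γ₁ (gen p₂ (p₂ z)) else 0)
    by_cases h0 : γ₁ z = 0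
    · rw [h0]
      split_ifs with h1 h2 h2
      · rw [← h1, ← h2, h0, add_zero]
      · rw [← h1, h0, add_zero]
      · rw [← h2, h0, add_zero]
      · rw [add_zero]
    have hx := hcod z h0
    by_cases hx1 : p₁ z = genericPoint X
    · by_cases hx2 : p₂ z = genericPoint Y
      · exact absurd (hhor z ⟨specializes_of_eq hx1, specializes_of_eq hx2⟩) h0
      · obtain ⟨h2, -⟩ := eq_gen_of_codimOne hP.flip hc₂ hc₁ hx hx2
        rw [if_pos h2, ← h2, if_neg (fun h => ?_), zero_add]
        rw [hx1, ← genericPoint_eq_gen (p₁ := p₁)] at h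
        rw [h] at hx
        omega
    · obtain ⟨h1, h2⟩ := eq_gen_of_codimOne hP hc₁ hc₂ hx hx1
      rw [if_pos h1, ← h1, if_neg (fun h => ?_), add_zero]
      rw [h2, ← genericPoint_eq_gen (p₁ := p₂)] at h
      rw [h] at hx
      omega
  · show γ z - γ₁ z = _
    simp [γ₁]

include hP hA hc₁ hc₂ hsP in
theorem inj [Flat p₁] [Flat p₂] (hsX : Cyc.IsSetup X δX) (hsY : Cyc.IsSetup Y δY)
    (hunit : ∀ u : LT k X Y, IsUnit u → ∃ (c : Y.functionField) (a : X.functionField),
      c ≠ 0 ∧ a ≠ 0 ∧ u = c ⊗ₜ a) :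
    ∀ α ∈ Cyc.Zk X δX (δX (genericPoint X) - 1), ∀ β ∈ Cyc.Zk Y δY (δY (genericPoint Y) - 1),
      ∀ γ' : AlgebraicCycle P ℤ,
        (∀ z, γ' z = Cyc.pullFun p₁ δP δX (δP (genericPoint P) - δX (genericPoint X)) α z +
          Cyc.pullFun p₂ δP δY (δP (genericPoint P) - δY (genericPoint Y)) β z) →
        Cyc.RatEquivZero δP (δP (genericPoint P) - 1) γ' →
        Cyc.RatEquivZero δX (δX (genericPoint X) - 1) α ∧ Cyc.RatEquivZero δY (δY (genericPoint Y) - 1) β := by
  classical
  intro α hα β hβ γ' hγ' hrat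
  haveI := hsP.1
  have hgen : ∀ w : P, genericPoint P ⤳ w := fun w => (genericPoint_spec P).specializes (Set.mem_univ w)
  obtain ⟨F, hF, hFd⟩ := exists_single_of_ratEquivZero hsP.2.2 hrat
  obtain ⟨u, hu, rfl⟩ := exists_unit_Ψ hP hA hgen hsP.2.2 hF fun z hz hx => by
    have h1 : p₁ z = genericPoint X := (hz.hx.antisymm ((genericPoint_spec X).specializes (Set.mem_univ _))).eq
    have h2 : p₂ z = genericPoint Y := (hz.hy.antisymm ((genericPoint_spec Y).specializes (Set.mem_univ _))).eq
    rw [← hFd z, hγ' z, pullFun_fst' hP hc₁, pullFun_fst' hP.flip hc₂, h1, h2, ← genericPoint_eq_gen (p₁ := p₁),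
      ← genericPoint_eq_gen (p₁ := p₂), if_neg, if_neg, add_zero]
    all_goals
      intro h
      rw [h] at hx
      omega
  obtain ⟨c, a, hc, ha, rfl⟩ := hunit u hu
  have hξ := over2_generic hP hA hgen
  let a' : X.residueField (p₁ (genericPoint P)) :=
    X.residue (p₁ (genericPoint P)) (X.presheaf.stalkSpecializes hξ.hx a)
  let c' : Y.residueField (p₂ (genericPoint P)) :=
    Y.residue (p₂ (genericPoint P)) (Y.presheaf.stalkSpecializes hξ.hy c)
  have hΨ : Ψ hP hA hgen (c ⊗ₜ a) =
      p₂.residueFieldMap (genericPoint P) c' * p₁.residueFieldMap (genericPoint P) a' := by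
    have e : c ⊗ₜ[k] a = inY c * inX a := by simp [inX, inY]
    rw [e, map_mul]
    congr 1
    · show P.residue _ ((φ hP hA hξ).comp inY c) = _
      rw [φ_inY]
      exact (congrArg (fun ρ => ρ.hom (Y.presheaf.stalkSpecializes hξ.hy c))
        (Scheme.residue_residueFieldMap p₂ (genericPoint P))).symm
    · show P.residue _ ((φ hP hA hξ).comp inX a) = _
      rw [φ_inX]
      exact (congrArg (fun ρ => ρ.hom (X.presheaf.stalkSpecializes hξ.hx a))
        (Scheme.residue_residueFieldMap p₁ (genericPoint P))).symm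
  rw [hΨ] at hF hFd
  have ha' : a' ≠ 0 := fun h => hF (by rw [h, map_zero, mul_zero])
  have hc' : c' ≠ 0 := fun h => hF (by rw [h, map_zero, zero_mul])
  rw [CycLib.divFun_mul hsP.2.2 ((_root_.map_ne_zero _).2 hc') ((_root_.map_ne_zero _).2 ha'),
    divFun_pullback hP hc₁ hsX hsP a' ha', divFun_pullback hP.flip hc₂ hsY hsP c' hc'] at hFd
  constructor
  · refine ratEquivZero_single (ξ := p₁ (genericPoint P)) (by rw [map_genericPoint_fst]; omega) ha' α fun D => ?_
    by_cases hD : δX D = δX (genericPoint X) - 1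
    swap
    · rw [hα D hD, CycLib.divFun_eq_zero_of_delta]
      rw [map_genericPoint_fst]
      omega
    have hne : D ≠ genericPoint X := fun e => by rw [e] at hD; omega
    have h := (hγ' (gen p₁ D)).symm.trans (hFd (gen p₁ D))
    rw [Pi.add_apply, pullFun_at_gen hP hc₁, pullFun_at_gen hP hc₁, pullFun_snd_at_gen hP hc₂ _ hne,
      pullFun_snd_at_gen hP hc₂ _ hne] at h
    simpa using h
  · refine ratEquivZero_single (ξ := p₂ (genericPoint P)) (by rw [map_genericPoint_fst]; omega) hc' β fun E => ?_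
    by_cases hE : δY E = δY (genericPoint Y) - 1
    swap
    · rw [hβ E hE, CycLib.divFun_eq_zero_of_delta]
      rw [map_genericPoint_fst]
      omega
    have hne : E ≠ genericPoint Y := fun e => by rw [e] at hE; omega
    have h := (hγ' (gen p₂ E)).symm.trans (hFd (gen p₂ E))
    rw [Pi.add_apply, pullFun_at_gen hP.flip hc₂, pullFun_at_gen hP.flip hc₂, pullFun_snd_at_gen hP.flip hc₁ _ hne,
      pullFun_snd_at_gen hP.flip hc₁ _ hne] at h
    simpa using h

end Groth.Agent.H28.ProdCl
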